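import Mathlib
import Groth.Agent.Lib.RegLoc.Basic

set_option autoImplicit false

/-! Regularity criteria and reducedness used for cyclic covers. -/

open Polynomial IsLocalRing

namespace Groth.Agent.Cyc6

universe u

section
variable {R : Type u} [CommRing R] [IsNoetherianRing R]

lemma lift_gens (P : Ideal R) [P.IsPrime] (h : IsRegularLocalRing (Localization.AtPrime P)) :
    ∃ G : Finset R, (↑G : Set R) ⊆ P ∧ (G.card : ℕ∞) ≤ P.height ∧
      ∀ p ∈ P, ∃ σ, σ ∉ P ∧ σ * p ∈ Ideal.span (↑G : Set R) := by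
  classical
  let L := Localization.AtPrime P
  haveI : IsRegularLocalRing L := h
  have hfg : (maximalIdeal L).FG := IsNoetherian.noetherian _
  have hfin := Submodule.FG.finite_generators hfg
  have hsurj : ∀ z : L, ∃ r : R, z ∈ maximalIdeal L → r ∈ P ∧
      ∃ c : Lˣ, z * c = algebraMap R L r := by
    intro z
    obtain ⟨⟨r, σ⟩, hr⟩ := IsLocalization.surj P.primeCompl z
    refine ⟨r, fun hz => ⟨?_, (IsLocalization.map_units L σ).unit, by simpa using hr⟩⟩
    rw [← IsLocalization.AtPrime.to_map_mem_maximal_iff L P r]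
    rw [← hr]
    exact Ideal.mul_mem_right _ _ hz
  choose r hr using hsurj
  have hgen : ∀ z ∈ hfin.toFinset, z ∈ maximalIdeal L := by
    intro z hz
    rw [Set.Finite.mem_toFinset] at hz
    rw [← Submodule.span_generators (maximalIdeal L)]
    exact Submodule.subset_span hz
  refine ⟨hfin.toFinset.image r, ?_, ?_, fun p hp => ?_⟩
  · intro x hx
    simp only [Finset.coe_image, Set.mem_image, Finset.mem_coe] at hx
    obtain ⟨z, hz, rfl⟩ := hx
    exact (hr z (hgen z hz)).1
  · have h1 : hfin.toFinset.card = (maximalIdeal L).spanFinrank := by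
      rw [← Set.ncard_eq_toFinset_card (hs := hfin)]
      exact Submodule.FG.generators_ncard hfg
    have h2 : ((maximalIdeal L).spanFinrank : WithBot ℕ∞) = (P.height : WithBot ℕ∞) := by
      rw [IsRegularLocalRing.spanFinrank_maximalIdeal,
        IsLocalization.AtPrime.ringKrullDim_eq_height P L]
    calc ((hfin.toFinset.image r).card : ℕ∞) ≤ (hfin.toFinset.card : ℕ∞) := by
          exact_mod_cast Finset.card_image_le
      _ ≤ P.height := by
          rw [h1]
          exact_mod_cast h2.le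
  · have hle : maximalIdeal L ≤ (Ideal.span (↑(hfin.toFinset.image r) : Set R)).map (algebraMap R L) := by
      conv_lhs => rw [← Submodule.span_generators (maximalIdeal L)]
      rw [Submodule.span_le]
      intro z hz
      obtain ⟨c, hc⟩ := (hr z (hgen z (hfin.mem_toFinset.mpr hz))).2
      rw [SetLike.mem_coe, ← Ideal.mul_unit_mem_iff_mem _ c.isUnit, hc]
      refine Ideal.mem_map_of_mem _ (Ideal.subset_span ?_)
      simp only [Finset.coe_image, Set.mem_image, Finset.mem_coe]
      exact ⟨z, hfin.mem_toFinset.mpr hz, rfl⟩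
    have hp' : algebraMap R L p ∈ maximalIdeal L := by
      rw [← Ideal.mem_comap, ← Ideal.under_def, IsLocalization.AtPrime.under_maximalIdeal L P]
      exact hp
    obtain ⟨σ, hσ, hmem⟩ :=
      (IsLocalization.algebraMap_mem_map_algebraMap_iff P.primeCompl L _ _).mp (hle hp')
    exact ⟨σ, hσ, hmem⟩

lemma height_quotient_add_one_le [IsDomain R] (f : R) (hf : f ≠ 0)
    (P : Ideal R) [P.IsPrime] (P' : Ideal (R ⧸ Ideal.span ({f} : Set R))) [P'.IsPrime]
    (h : P'.comap (Ideal.Quotient.mk _) = P) : P'.height + 1 ≤ P.height := by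
  obtain ⟨l, hl, hlen⟩ := P'.exists_ltSeries_length_eq_height
  let l' : LTSeries (PrimeSpectrum R) := l.map (PrimeSpectrum.comap (Ideal.Quotient.mk _))
    (RingHom.strictMono_comap_of_surjective Ideal.Quotient.mk_surjective)
  have hfmem : f ∈ l'.head.asIdeal := by
    simp only [l', LTSeries.head_map, PrimeSpectrum.comap_asIdeal, Ideal.mem_comap]
    rw [Ideal.Quotient.eq_zero_iff_mem.mpr (Ideal.mem_span_singleton_self f)]
    exact zero_mem _
  have hlt : (⟨⊥, Ideal.isPrime_bot⟩ : PrimeSpectrum R) < l'.head := by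
    rw [← PrimeSpectrum.asIdeal_lt_asIdeal]
    exact lt_of_le_of_ne bot_le (fun e => hf (by rw [← e] at hfmem; simpa using hfmem))
  let l'' := l'.cons ⟨⊥, Ideal.isPrime_bot⟩ hlt
  have hlast : l''.last = ⟨P, ‹_›⟩ := by
    rw [RelSeries.last_cons]
    simp only [l', LTSeries.last_map, hl]
    exact PrimeSpectrum.ext h
  have := Order.length_le_height (p := l'') (x := (⟨P, ‹_›⟩ : PrimeSpectrum R)) hlast.le
  rw [← PrimeSpectrum.height_eq_orderHeight] at this
  rw [← hlen]
  simpa [l'', l'] using this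

end

/-- In a local algebra over a field, an element killed by a separable polynomial generates a field. -/
lemma eq_zero_of_not_isUnit {κ L : Type u} [Field κ] [CommRing L] [Algebra κ L] [IsLocalRing L]
    (z : L) (p : κ[X]) (hp : p.Separable) (hz : aeval z p = 0)
    (y : L) (hy : y ∈ Algebra.adjoin κ {z}) (hu : ¬ IsUnit y) : y = 0 := by
  have hint : IsIntegral κ z :=
    IsAlgebraic.isIntegral ⟨p, hp.ne_zero, hz⟩
  have hq : (minpoly κ z).Separable := hp.of_dvd (minpoly.dvd κ z hz)
  have hq0 : minpoly κ z ≠ 0 := minpoly.ne_zero hint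
  have hirr : Irreducible (minpoly κ z) := by
    refine ⟨minpoly.not_isUnit κ z, fun a b hab => ?_⟩
    obtain ⟨s, t, hst⟩ := (hab ▸ hq).isCoprime
    have h1 := congrArg (aeval z) hst
    rw [map_add, map_mul, map_mul, map_one] at h1
    have h2 : aeval z a * aeval z b = 0 := by rw [← map_mul, ← hab, minpoly.aeval]
    rcases IsLocalRing.isUnit_or_isUnit_of_add_one h1 with h | h
    · have ha := (IsUnit.mul_iff.mp h).2
      have hb : aeval z b = 0 := (ha.mul_right_eq_zero).mp h2
      obtain ⟨c, hc⟩ := minpoly.dvd κ z hb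
      left
      have hb0 : b ≠ 0 := fun e => hq0 (by rw [hab, e, mul_zero])
      refine IsUnit.of_mul_eq_one c (mul_left_cancel₀ hb0 ?_)
      rw [mul_one]
      conv_rhs => rw [hc, hab]
      ring
    · have hb := (IsUnit.mul_iff.mp h).2
      have ha : aeval z a = 0 := (hb.mul_left_eq_zero).mp h2
      obtain ⟨c, hc⟩ := minpoly.dvd κ z ha
      right
      have ha0 : a ≠ 0 := fun e => hq0 (by rw [hab, e, zero_mul])
      refine IsUnit.of_mul_eq_one c (mul_left_cancel₀ ha0 ?_)
      rw [mul_one]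
      conv_rhs => rw [hc, hab]
      ring
  rw [Algebra.adjoin_singleton_eq_range_aeval] at hy
  obtain ⟨r, rfl⟩ := hy
  by_contra hne
  apply hu
  have hndvd : ¬ minpoly κ z ∣ r := by
    rintro ⟨c, rfl⟩
    exact hne (by simp [minpoly.aeval])
  obtain ⟨s, t, hst⟩ := hirr.coprime_iff_not_dvd.mpr hndvd
  have h1 := congrArg (aeval z) hst
  rw [map_add, map_mul, map_mul, map_one, minpoly.aeval, mul_zero, zero_add] at h1
  exact IsUnit.of_mul_eq_one _ (by rw [mul_comm]; exact h1)

section
variable {B A : Type u} [CommRing B] [CommRing A] [Algebra B A] [Module.Flat B A]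
  [IsNoetherianRing A] [IsNoetherianRing B]

/-- Regularity at `Q` from a fibre generated by a root of a separable polynomial. -/
lemma regular_of (Q : Ideal A) [Q.IsPrime] (P : Ideal B) [P.IsPrime] (hP : Q.under B = P)
    (G : Finset A) (hGQ : (↑G : Set A) ⊆ Q) (hG : (G.card : ℕ∞) ≤ P.height)
    (hPG : ∀ p ∈ P, ∃ σ, σ ∉ Q ∧ σ * algebraMap B A p ∈ Ideal.span (↑G : Set A))
    (gens : Set A) (hgens : Algebra.adjoin B gens = ⊤)
    (z : A) (g : ℕ) (hgB : IsUnit (g : B)) (c : B) (hc : c ∉ P) (hzc : z ^ g = algebraMap B A c)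
    (hgz : ∀ e ∈ gens, ∃ β γ : B, ∃ j : ℕ, β ∉ P ∧ ∃ σ, σ ∉ Q ∧
      σ * (algebraMap B A β * e - algebraMap B A γ * z ^ j) ∈ Ideal.span (↑G : Set A)) :
    IsRegularLocalRing (Localization.AtPrime Q) := by
  classical
  let Q' := Localization.AtPrime Q
  let π : A →+* Q' := algebraMap A Q'
  let J : Ideal Q' := (Ideal.span (↑G : Set A)).map π
  have hJQ : J ≤ maximalIdeal Q' := by
    rw [← Localization.AtPrime.map_eq_maximalIdeal]
    exact Ideal.map_mono (Ideal.span_le.mpr hGQ)
  have hJne : J ≠ ⊤ := fun e => (maximalIdeal.isMaximal Q').ne_top (top_le_iff.mp (e ▸ hJQ))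
  let L := Q' ⧸ J
  haveI : Nontrivial L := Ideal.Quotient.nontrivial_iff.mpr hJne
  haveI : IsLocalRing L := .of_surjective' (Ideal.Quotient.mk J) Ideal.Quotient.mk_surjective
  let ψ : A →+* L := (Ideal.Quotient.mk J).comp π
  have hψu : ∀ σ, σ ∉ Q → IsUnit (ψ σ) := fun σ hσ =>
    (IsLocalization.map_units Q' (⟨σ, hσ⟩ : Q.primeCompl)).map (Ideal.Quotient.mk J)
  have hψG : ∀ σ a, σ ∉ Q → σ * a ∈ Ideal.span (↑G : Set A) → ψ a = 0 := by
    intro σ a hσ h
    have h1 : ψ (σ * a) = 0 := Ideal.Quotient.eq_zero_iff_mem.mpr (Ideal.mem_map_of_mem π h)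
    rw [map_mul] at h1
    exact (hψu σ hσ).mul_right_eq_zero.mp h1
  let χ₀ : B ⧸ P →+* L := Ideal.Quotient.lift P (ψ.comp (algebraMap B A)) (fun p hp => by
    obtain ⟨σ, hσ, h⟩ := hPG p hp
    exact hψG σ _ hσ h)
  have hχ₀ : ∀ y : nonZeroDivisors (B ⧸ P), IsUnit (χ₀ y) := by
    rintro ⟨y, hy⟩
    obtain ⟨b, rfl⟩ := Ideal.Quotient.mk_surjective y
    have hb : b ∉ P := fun h => nonZeroDivisors.ne_zero hy (Ideal.Quotient.eq_zero_iff_mem.mpr h)
    exact hψu _ (fun h => hb (hP ▸ h))
  let κ := FractionRing (B ⧸ P)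
  let χ : κ →+* L := IsLocalization.lift hχ₀
  letI : Algebra κ L := χ.toAlgebra
  let ι : B → κ := fun b => algebraMap (B ⧸ P) κ (Ideal.Quotient.mk P b)
  have hχ : ∀ b : B, algebraMap κ L (ι b) = ψ (algebraMap B A b) := fun b => by
    show χ _ = _
    rw [IsLocalization.lift_eq]
    rfl
  have hι0 : ∀ b, b ∉ P → ι b ≠ 0 := fun b hb h => hb (Ideal.Quotient.eq_zero_iff_mem.mp
    (IsFractionRing.injective (B ⧸ P) κ (by rw [map_zero]; exact h)))
  have hgκ : (g : κ) ≠ 0 := by
    have := (hgB.map ((algebraMap (B ⧸ P) κ).comp (Ideal.Quotient.mk P))).ne_zero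
    rwa [map_natCast] at this
  have hsep := separable_X_pow_sub_C (ι c) hgκ (hι0 c hc)
  have hzero : aeval (ψ z) (X ^ g - Polynomial.C (ι c)) = 0 := by
    rw [map_sub, map_pow, aeval_X, aeval_C, hχ, ← map_pow, hzc, sub_self]
  have hall : ∀ a : A, ψ a ∈ Algebra.adjoin κ {ψ z} := by
    intro a
    have ha : a ∈ Algebra.adjoin B gens := hgens ▸ Algebra.mem_top
    induction ha using Algebra.adjoin_induction with
    | mem e he =>
      obtain ⟨β, γ, j, hβ, σ, hσ, h⟩ := hgz e he
      have h1 := hψG σ _ hσ h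
      rw [map_sub, map_mul, map_mul, map_pow, sub_eq_zero, ← hχ, ← hχ] at h1
      have h2 : ψ e = algebraMap κ L ((ι β)⁻¹ * ι γ) * ψ z ^ j := by
        rw [map_mul, mul_assoc, ← h1, ← mul_assoc, ← map_mul, inv_mul_cancel₀ (hι0 β hβ), map_one,
          one_mul]
      rw [h2]
      exact mul_mem (Subalgebra.algebraMap_mem _ _)
        (pow_mem (Algebra.self_mem_adjoin_singleton κ (ψ z)) j)
    | algebraMap r => rw [← hχ]; exact Subalgebra.algebraMap_mem _ _
    | add x y _ _ hx hy => rw [map_add]; exact add_mem hx hy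
    | mul x y _ _ hx hy => rw [map_mul]; exact mul_mem hx hy
  have hmax : maximalIdeal Q' = J := by
    refine le_antisymm ?_ hJQ
    rw [← Localization.AtPrime.map_eq_maximalIdeal, Ideal.map_le_iff_le_comap]
    intro a ha
    have hnu : ¬ IsUnit (ψ a) := by
      haveI : IsLocalHom (Ideal.Quotient.mk J) :=
        IsLocalHom.of_surjective _ Ideal.Quotient.mk_surjective
      intro h
      have := isUnit_of_map_unit (Ideal.Quotient.mk J) (π a) h
      exact (IsLocalization.AtPrime.isUnit_to_map_iff Q' Q a).mp this ha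
    rw [Ideal.mem_comap]
    exact (Ideal.Quotient.eq_zero_iff_mem (I := J) (a := π a)).mp
      (eq_zero_of_not_isUnit (ψ z) _ hsep hzero _ (hall a) hnu)
  refine IsRegularLocalRing.of_spanFinrank_maximalIdeal_le _ ?_
  have h1 : (maximalIdeal Q').spanFinrank ≤ G.card := by
    rw [hmax]
    show ((Ideal.span (↑G : Set A)).map π).spanFinrank ≤ _
    rw [Ideal.map_span, ← Finset.coe_image]
    refine (Submodule.spanFinrank_span_le_ncard_of_finite (Finset.finite_toSet _)).trans ?_
    rw [Set.ncard_coe_finset]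
    exact Finset.card_image_le
  have h2 : P.height ≤ Q.height := by
    haveI : Q.LiesOver P := ⟨hP.symm⟩
    rw [Ideal.height_eq_height_add_of_liesOver_of_hasGoingDown P Q]
    exact le_self_add
  rw [IsLocalization.AtPrime.ringKrullDim_eq_height Q Q']
  calc ((maximalIdeal Q').spanFinrank : WithBot ℕ∞) ≤ ((G.card : ℕ∞) : WithBot ℕ∞) := by
        exact_mod_cast h1
    _ ≤ (Q.height : WithBot ℕ∞) := by exact_mod_cast hG.trans h2

end

lemma isReduced_of_regular (R : Type u) [CommRing R]
    (h : ∀ (P : Ideal R) [P.IsPrime], IsRegularLocalRing (Localization.AtPrime P)) :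
    IsReduced R :=
  isReduced_ofLocalizationMaximal R fun m _ => by
    haveI := h m
    haveI := Groth.Agent.RegLoc.isDomain (Localization.AtPrime m)
    infer_instance

/-- `R[X]/(X^g - c)` is reduced for a reduced `R` with `g`, `c` units. -/
lemma dvd_of_pow {R : Type u} [CommRing R] [IsReduced R] [Nontrivial R] (g : ℕ)
    (hg : IsUnit (g : R)) (c : Rˣ) (q : R[X]) (hq : q.natDegree < g) (m : ℕ)
    (h : (X ^ g - C (c : R)) ∣ q ^ m) : q = 0 := by
  ext i
  rw [coeff_zero]
  have hmon : (X ^ g - C (c : R)).Monic := monic_X_pow_sub_C _ (by omega)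
  have key : ∀ P : Ideal R, P.IsPrime → q.coeff i ∈ P := by
    intro P hP
    let φ : R →+* FractionRing (R ⧸ P) :=
      (algebraMap (R ⧸ P) (FractionRing (R ⧸ P))).comp (Ideal.Quotient.mk P)
    have hg' : (g : FractionRing (R ⧸ P)) ≠ 0 := by
      have := (hg.map φ).ne_zero
      rwa [map_natCast] at this
    have hsep := separable_X_pow_sub_C (φ c) hg' (c.isUnit.map φ).ne_zero
    have h1 := Polynomial.map_dvd φ h
    rw [Polynomial.map_sub, Polynomial.map_pow, map_X, map_C, Polynomial.map_pow] at h1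
    have h2 : X ^ g - C (φ c) ∣ q.map φ := by
      rcases Nat.eq_zero_or_pos m with rfl | hm
      · rw [pow_zero] at h1
        have := Polynomial.natDegree_eq_zero_of_isUnit (isUnit_of_dvd_one h1)
        rw [natDegree_X_pow_sub_C] at this
        omega
      · exact (hsep.squarefree.dvd_pow_iff_dvd hm.ne').mp h1
    have h3 : q.map φ = 0 := by
      by_contra hne
      have := natDegree_le_of_dvd h2 hne
      rw [natDegree_X_pow_sub_C] at this
      have := natDegree_map_le (f := φ) (p := q)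
      omega
    have h4 := congrArg (fun t => t.coeff i) h3
    simp only [coeff_map, coeff_zero] at h4
    exact Ideal.Quotient.eq_zero_iff_mem.mp (IsFractionRing.injective (R ⧸ P)
      (FractionRing (R ⧸ P)) (by rw [map_zero]; exact h4))
  have : q.coeff i ∈ nilradical R := by
    rw [nilradical_eq_sInf, Ideal.mem_sInf]
    exact fun {P} hP => key P hP
  rw [nilradical_eq_bot_iff.mpr ‹_›] at this
  exact this

end Groth.Agent.Cyc6
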