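import Mathlib
import Groth.Agent.Lib.Cyc6.Reg

set_option autoImplicit false

/-! The normalization of `t^N = u f^α` as the algebra of fractional monomials. -/

open Polynomial

namespace Groth.Agent.Cyc6

universe u

/-- Data of a cyclic cover `t^N = u f^α` inside `K = B[t]_f`. -/
structure Cover (B K : Type u) [CommRing B] [CommRing K] [Algebra B K] where
  T : Kˣ
  F : Kˣ
  v : Bˣ
  f : B
  g : ℕ
  n : ℕ
  α : ℕ
  hg : 0 < g
  hn : 0 < n
  a : ℤ
  b : ℤ
  bez : a * α = b * n + 1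
  hF : (F : K) = algebraMap B K f
  hT : T ^ (g * n) = Units.map (algebraMap B K).toMonoidHom v * F ^ (g * α)
  indep : LinearIndependent B fun i : Fin (g * n) => (T : K) ^ (i : ℕ)
  gen : ∀ x : K, ∃ k : ℕ, (F : K) ^ k * x ∈
    Submodule.span B (Set.range fun i : Fin (g * n) => (T : K) ^ (i : ℕ))

namespace Cover

variable {B K : Type u} [CommRing B] [CommRing K] [Algebra B K] (D : Cover B K)

/-- fractional monomials -/
noncomputable def e (i : ℤ) : Kˣ := D.T ^ i * D.F ^ (-(i * D.α / D.n))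

noncomputable def s : Kˣ := D.T ^ D.a * D.F ^ (-D.b)

/-- the algebra -/
noncomputable def A : Subalgebra B K :=
  Algebra.adjoin B (Set.range fun i : Fin (D.g * D.n) => (D.e (i : ℕ) : K))

noncomputable def vK : Kˣ := Units.map (algebraMap B K).toMonoidHom D.v

lemma N_pos : 0 < D.g * D.n := Nat.mul_pos D.hg D.hn

lemma e_zero : D.e 0 = 1 := by simp [e]

lemma n_ne : (D.n : ℤ) ≠ 0 := by exact_mod_cast D.hn.ne'

lemma e_add_period (i k : ℤ) : D.e (i + k * (D.g * D.n : ℕ)) = D.vK ^ k * D.e i := by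
  have hdiv : (i + k * (D.g * D.n : ℕ)) * D.α / D.n = i * D.α / D.n + k * D.g * D.α := by
    rw [show (i + k * (D.g * D.n : ℕ)) * (D.α : ℤ) = i * D.α + (k * D.g * D.α) * D.n by push_cast; ring]
    exact Int.add_mul_ediv_right _ _ D.n_ne
  rw [e, hdiv, zpow_add, e, mul_comm k, zpow_mul D.T, zpow_natCast, D.hT, mul_zpow, ← zpow_natCast D.F,
    ← zpow_mul]
  rw [show (-(i * (D.α : ℤ) / D.n + k * D.g * D.α)) = -(i * D.α / D.n) + -(k * D.g * D.α) by ring,
    zpow_add D.F, show ((D.g * D.α : ℕ) : ℤ) * k = k * D.g * D.α by push_cast; ring, vK]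
  rw [zpow_neg D.F (k * D.g * D.α)]
  calc _ = (Units.map (algebraMap B K).toMonoidHom D.v) ^ k *
        (D.T ^ i * D.F ^ (-(i * (D.α : ℤ) / D.n))) * ((D.F ^ (k * D.g * D.α)) * (D.F ^ (k * D.g * D.α))⁻¹) := by
          simp only [mul_comm, mul_left_comm, mul_assoc]
    _ = _ := by rw [mul_inv_cancel, mul_one]

lemma val_F_pow (m : ℕ) : ((D.F ^ m : Kˣ) : K) = algebraMap B K (D.f ^ m) := by
  rw [Units.val_pow_eq_pow_val, D.hF, map_pow]

lemma val_vK_zpow (k : ℤ) : ((D.vK ^ k : Kˣ) : K) = algebraMap B K ((D.v ^ k : Bˣ) : B) := by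
  rw [vK, ← map_zpow]; rfl

lemma e_mem_span (i : ℤ) :
    (D.e i : K) ∈ Submodule.span B (Set.range fun i : Fin (D.g * D.n) => (D.e (i : ℕ) : K)) := by
  have hN : ((D.g * D.n : ℕ) : ℤ) ≠ 0 := by exact_mod_cast D.N_pos.ne'
  obtain ⟨r, hr⟩ : ∃ r : ℕ, (r : ℤ) = i % (D.g * D.n : ℕ) :=
    ⟨_, Int.toNat_of_nonneg (Int.emod_nonneg _ hN)⟩
  have hrN : r < D.g * D.n := by
    have := Int.emod_lt_of_pos i (by exact_mod_cast D.N_pos : (0 : ℤ) < (D.g * D.n : ℕ))
    omega
  have hi : i = (r : ℤ) + i / (D.g * D.n : ℕ) * (D.g * D.n : ℕ) := by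
    rw [hr]; linarith [Int.emod_add_mul_ediv i ((D.g * D.n : ℕ) : ℤ)]
  rw [hi, e_add_period, Units.val_mul, val_vK_zpow, ← Algebra.smul_def]
  exact Submodule.smul_mem _ _ (Submodule.subset_span ⟨⟨r, hrN⟩, rfl⟩)

lemma e_mem (i : ℤ) : (D.e i : K) ∈ D.A := by
  have := Algebra.span_le_adjoin B _ (D.e_mem_span i)
  exact this

lemma e_mul (i j : ℤ) : ∃ m : ℕ, (D.e i : K) * D.e j = algebraMap B K (D.f ^ m) * D.e (i + j) := by
  have hle : i * D.α / D.n + j * D.α / D.n ≤ (i + j) * D.α / D.n := by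
    rw [Int.le_ediv_iff_mul_le (by exact_mod_cast D.hn), add_mul, add_mul]
    exact add_le_add (Int.ediv_mul_le _ D.n_ne) (Int.ediv_mul_le _ D.n_ne)
  obtain ⟨m, hm⟩ := Int.le.dest hle
  refine ⟨m, ?_⟩
  rw [← Units.val_mul, ← val_F_pow, ← Units.val_mul]
  congr 1
  rw [e, e, e, ← hm, ← zpow_natCast D.F, zpow_add D.T,
    show (-(i * (D.α : ℤ) / D.n + j * D.α / D.n + m)) = -(i * D.α / D.n) + -(j * D.α / D.n) + -(m : ℤ) by ring,
    zpow_add, zpow_add, zpow_neg D.F (m : ℤ)]
  calc _ = D.T ^ i * D.F ^ (-(i * (D.α : ℤ) / D.n)) * (D.T ^ j * D.F ^ (-(j * (D.α : ℤ) / D.n))) *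
        (D.F ^ (m : ℤ) * (D.F ^ (m : ℤ))⁻¹) := by rw [mul_inv_cancel, mul_one]
    _ = _ := by simp only [mul_comm, mul_left_comm, mul_assoc]

lemma mem_A_iff (x : K) :
    x ∈ D.A ↔ x ∈ Submodule.span B (Set.range fun i : Fin (D.g * D.n) => (D.e (i : ℕ) : K)) := by
  refine ⟨fun h => ?_, fun h => Algebra.span_le_adjoin B _ h⟩
  induction h using Algebra.adjoin_induction with
  | mem y hy => exact Submodule.subset_span hy
  | algebraMap r =>
    rw [show algebraMap B K r = r • (D.e 0 : K) by rw [e_zero, Algebra.smul_def, Units.val_one, mul_one]]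
    exact Submodule.smul_mem _ _ (D.e_mem_span 0)
  | add y z _ _ hy hz => exact add_mem hy hz
  | mul y z ha hb hy hz =>
    clear ha hb
    induction hy using Submodule.span_induction with
    | mem y hy =>
      obtain ⟨i, rfl⟩ := hy
      induction hz using Submodule.span_induction with
      | mem z hz =>
        obtain ⟨j, rfl⟩ := hz
        obtain ⟨m, hm⟩ := D.e_mul (i : ℕ) (j : ℕ)
        simp only
        rw [hm, ← Algebra.smul_def]
        exact Submodule.smul_mem _ _ (D.e_mem_span _)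
      | zero => rw [mul_zero]; exact zero_mem _
      | add z w _ _ hz hw => rw [mul_add]; exact add_mem hz hw
      | smul r z _ hz => rw [mul_smul_comm]; exact Submodule.smul_mem _ _ hz
    | zero => rw [zero_mul]; exact zero_mem _
    | add y w _ _ hy hw => rw [add_mul]; exact add_mem hy hw
    | smul r y _ hy => rw [smul_mul_assoc]; exact Submodule.smul_mem _ _ hy

lemma A_finite : Module.Finite B D.A := by
  have : D.A.toSubmodule = Submodule.span B (Set.range fun i : Fin (D.g * D.n) => (D.e (i : ℕ) : K)) := by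
    ext x; exact D.mem_A_iff x
  exact Module.Finite.iff_fg.mpr (this ▸ Submodule.fg_span (Set.finite_range _))

lemma e_indep : LinearIndependent B fun i : Fin (D.g * D.n) => (D.e (i : ℕ) : K) := by
  rw [Fintype.linearIndependent_iff]
  intro c hc i
  have hbound : ∀ j : Fin (D.g * D.n), ∃ m : ℕ, (m : ℤ) = ((j : ℕ) : ℤ) * D.α / D.n ∧
      m ≤ D.g * D.n * D.α := by
    intro j
    refine ⟨(j : ℕ) * D.α / D.n, by push_cast; rfl, ?_⟩
    exact (Nat.div_le_self _ _).trans (Nat.mul_le_mul_right _ j.isLt.le)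
  choose m hm hmle using hbound
  let M := D.g * D.n * D.α
  have h1 : ∑ j, (c j * D.f ^ (M - m j)) • (D.T : K) ^ (j : ℕ) = 0 := by
    have h2 : ∀ j, (c j * D.f ^ (M - m j)) • (D.T : K) ^ (j : ℕ) = algebraMap B K (D.f ^ M) * (c j • (D.e (j : ℕ) : K)) := by
      intro j
      rw [Algebra.smul_def, map_mul, Algebra.smul_def, ← val_F_pow, ← val_F_pow, ← Units.val_pow_eq_pow_val,
        mul_assoc, mul_left_comm _ (algebraMap B K (c j)), ← Units.val_mul, ← Units.val_mul]
      congr 2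
      rw [e, ← hm j, zpow_natCast, zpow_neg, zpow_natCast, pow_sub D.F (hmle j)]
      simp only [M, mul_comm, mul_left_comm, mul_assoc]
    simp only [h2, ← Finset.mul_sum, hc, mul_zero]
  have h3 := Fintype.linearIndependent_iff.mp D.indep _ h1 i
  have hFu : IsUnit (algebraMap B K D.f) := D.hF ▸ D.F.isUnit
  have hinj : Function.Injective (algebraMap B K) := by
    intro x y hxy
    have h0 : ((x - y) • fun j : Fin (D.g * D.n) => (D.T : K) ^ (j : ℕ)) ⟨0, D.N_pos⟩ = 0 := by
      simp [Algebra.smul_def, hxy]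
    have := Fintype.linearIndependent_iff.mp D.indep (fun j => if j = ⟨0, D.N_pos⟩ then x - y else 0)
      (by rw [Finset.sum_eq_single ⟨0, D.N_pos⟩ (fun j _ hj => by simp [hj]) (by simp)]; simpa using h0)
      ⟨0, D.N_pos⟩
    simpa [sub_eq_zero] using this
  apply hinj
  rw [map_zero]
  have h4 : algebraMap B K (c i) * algebraMap B K (D.f ^ (M - m i)) = 0 := by
    rw [← map_mul, h3, map_zero]
  exact (IsUnit.mul_left_eq_zero (by rw [map_pow]; exact hFu.pow _)).mp h4

lemma A_free : Module.Free B D.A := by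
  have hspan : D.A.toSubmodule = Submodule.span B (Set.range fun i : Fin (D.g * D.n) => (D.e (i : ℕ) : K)) := by
    ext x; exact D.mem_A_iff x
  exact Module.Free.of_basis ((Module.Basis.span D.e_indep).map
    (LinearEquiv.ofEq _ _ hspan.symm : _ ≃ₗ[B] D.A.toSubmodule))

lemma T_eq (j : ℕ) : ∃ m : ℕ, (D.T : K) ^ j = algebraMap B K (D.f ^ m) * D.e j := by
  refine ⟨j * D.α / D.n, ?_⟩
  rw [← val_F_pow, ← Units.val_pow_eq_pow_val, ← Units.val_mul]
  congr 1
  rw [e, zpow_natCast, show ((j : ℤ) * (D.α : ℤ) / D.n) = ((j * D.α / D.n : ℕ) : ℤ) by push_cast; rfl,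
    zpow_neg, zpow_natCast, mul_comm, mul_assoc, inv_mul_cancel, mul_one]

lemma T_mem (j : ℕ) : (D.T : K) ^ j ∈ D.A := by
  obtain ⟨m, hm⟩ := D.T_eq j
  rw [hm]
  exact mul_mem (Subalgebra.algebraMap_mem _ _) (D.e_mem _)

lemma dvd_iff (i : ℤ) : (D.n : ℤ) ∣ i * D.α + 1 ↔ (D.n : ℤ) ∣ i + D.a := by
  constructor <;> rintro ⟨q, hq⟩
  · refine ⟨D.a * q - i * D.b, ?_⟩
    have := D.bez
    linear_combination D.a * hq - i * this
  · refine ⟨q * D.α - D.b, ?_⟩
    have := D.bez
    linear_combination (D.α : ℤ) * hq - this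

lemma ediv_succ_of_dvd (y : ℤ) (h : (D.n : ℤ) ∣ y + 1) : (y + 1) / D.n = y / D.n + 1 := by
  obtain ⟨q, hq⟩ := h
  rw [hq, Int.mul_ediv_cancel_left _ D.n_ne, show y = -1 + q * D.n by rw [mul_comm] at hq; linarith,
    Int.add_mul_ediv_right _ _ D.n_ne]
  have : (-1 : ℤ) / D.n = -1 := by
    rw [Int.ediv_eq_iff_of_pos (by exact_mod_cast D.hn)] at *
    constructor <;> (have : (1 : ℤ) ≤ D.n := by exact_mod_cast D.hn) <;> linarith
  omega

lemma ediv_succ_of_not_dvd (y : ℤ) (h : ¬ (D.n : ℤ) ∣ y + 1) : (y + 1) / D.n = y / D.n := by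
  have hn : (0 : ℤ) < D.n := by exact_mod_cast D.hn
  rw [Int.ediv_eq_iff_of_pos hn]
  have h1 := Int.ediv_mul_le y D.n_ne
  have h2 := Int.lt_ediv_add_one_mul_self y hn
  refine ⟨by linarith, ?_⟩
  by_contra h3
  apply h
  exact ⟨y / D.n + 1, by rw [mul_comm]; nlinarith⟩

lemma shift_div (i : ℤ) : (i + D.a) * D.α / D.n = (i * D.α + 1) / D.n + D.b := by
  rw [show (i + D.a) * (D.α : ℤ) = (i * D.α + 1) + D.b * D.n by rw [add_mul, D.bez]; ring,
    Int.add_mul_ediv_right _ _ D.n_ne]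

lemma s_mul_of_dvd (i : ℤ) (h : (D.n : ℤ) ∣ i + D.a) :
    (D.s : K) * D.e i = algebraMap B K D.f * D.e (i + D.a) := by
  rw [← D.hF, ← Units.val_mul, ← Units.val_mul]
  congr 1
  rw [e, e, s, shift_div, ediv_succ_of_dvd _ _ ((D.dvd_iff i).mpr h), zpow_add D.T,
    show -(i * (D.α : ℤ) / D.n + 1 + D.b) = -(i * D.α / D.n) + -D.b + -1 by ring,
    zpow_add, zpow_add, zpow_neg_one]
  calc _ = D.T ^ D.a * D.F ^ (-D.b) * (D.T ^ i * D.F ^ (-(i * (D.α : ℤ) / D.n))) * (D.F * D.F⁻¹) := by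
        rw [mul_inv_cancel, mul_one]
    _ = _ := by ac_rfl

lemma s_mul_of_not_dvd (i : ℤ) (h : ¬ (D.n : ℤ) ∣ i + D.a) :
    (D.s : K) * D.e i = D.e (i + D.a) := by
  rw [← Units.val_mul]
  congr 1
  rw [e, e, s, shift_div, ediv_succ_of_not_dvd _ _ (mt (D.dvd_iff i).mp h), zpow_add D.T,
    show -(i * (D.α : ℤ) / D.n + D.b) = -(i * D.α / D.n) + -D.b by ring, zpow_add]
  ac_rfl

lemma e_mul_n (p : ℤ) : D.e (D.n * p) = D.e D.n ^ p := by
  rw [e, e, mul_zpow, ← zpow_mul, ← zpow_mul]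
  congr 2
  rw [show (D.n : ℤ) * p * D.α = p * D.α * D.n by ring, Int.mul_ediv_cancel _ D.n_ne,
    Int.mul_ediv_cancel_left _ D.n_ne]
  ring

lemma s_pow : D.s ^ D.n = D.e (D.n * D.a) * D.F := by
  rw [s, e, mul_pow, ← zpow_natCast (D.T ^ D.a), ← zpow_mul, ← zpow_natCast (D.F ^ (-D.b)), ← zpow_mul,
    mul_comm (D.n : ℤ) D.a, mul_assoc]
  congr 1
  rw [← zpow_add_one]
  congr 1
  rw [show D.a * (D.n : ℤ) * D.α = D.a * D.α * D.n by ring, Int.mul_ediv_cancel _ D.n_ne, D.bez]
  ring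

lemma w_pow : D.e D.n ^ D.g = D.vK := by
  rw [← zpow_natCast (D.e D.n), ← e_mul_n, show (D.n : ℤ) * D.g = 0 + 1 * ((D.g * D.n : ℕ) : ℤ) by push_cast; ring,
    e_add_period, e_zero, mul_one, zpow_one]

lemma s_mem : (D.s : K) ∈ D.A := by
  have h := D.s_mul_of_dvd (-D.a) (by simp)
  by_cases hd : (D.n : ℤ) ∣ D.a
  · have h2 := D.s_mul_of_dvd 0 (by simpa using hd)
    rw [e_zero, Units.val_one, mul_one] at h2
    rw [h2]; exact mul_mem (Subalgebra.algebraMap_mem _ _) (D.e_mem _)
  · have h2 := D.s_mul_of_not_dvd 0 (by simpa using hd)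
    rw [e_zero, Units.val_one, mul_one] at h2
    rw [h2]; exact D.e_mem _

noncomputable def sA : D.A := ⟨D.s, D.s_mem⟩

noncomputable def wA : D.A := ⟨D.e D.n, D.e_mem _⟩

noncomputable def eA (i : ℤ) : D.A := ⟨D.e i, D.e_mem i⟩

lemma f_mem_s : algebraMap B D.A D.f ∈ Ideal.span {D.sA} := by
  obtain ⟨k, hk⟩ : ∃ k, D.n = k + 1 := ⟨D.n - 1, by have := D.hn; omega⟩
  rw [Ideal.mem_span_singleton]
  refine ⟨D.sA ^ k * D.eA (-(D.n * D.a)), Subtype.ext ?_⟩
  show algebraMap B K D.f = (D.s : K) * ((D.s : K) ^ k * (D.e (-(D.n * D.a)) : K))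
  rw [← mul_assoc, ← pow_succ', ← hk, ← D.hF, ← Units.val_pow_eq_pow_val, ← Units.val_mul]
  congr 1
  rw [s_pow, show -((D.n : ℤ) * D.a) = (D.n : ℤ) * (-D.a) by ring, e_mul_n, e_mul_n, zpow_neg,
    mul_comm (D.e D.n ^ D.a), mul_assoc, mul_inv_cancel, mul_one]

lemma eA_mem_s (i : ℤ) (h : ¬ (D.n : ℤ) ∣ i) : D.eA i ∈ Ideal.span {D.sA} := by
  rw [Ideal.mem_span_singleton]
  refine ⟨D.eA (i - D.a), Subtype.ext ?_⟩
  show (D.e i : K) = (D.s : K) * (D.e (i - D.a) : K)
  rw [D.s_mul_of_not_dvd _ (by simpa using h), sub_add_cancel]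

lemma eA_dvd (p : ℕ) : D.eA (D.n * p : ℕ) = D.wA ^ p := by
  apply Subtype.ext
  show (D.e ((D.n * p : ℕ) : ℤ) : K) = (D.e D.n : K) ^ p
  rw [Nat.cast_mul, e_mul_n, zpow_natCast, Units.val_pow_eq_pow_val]

lemma wA_pow : D.wA ^ D.g = algebraMap B D.A (D.v : B) := by
  apply Subtype.ext
  show (D.e D.n : K) ^ D.g = algebraMap B K (D.v : B)
  rw [← Units.val_pow_eq_pow_val, w_pow]
  rfl

lemma gens_top : Algebra.adjoin B (Set.range fun i : Fin (D.g * D.n) => D.eA (i : ℕ)) = ⊤ := by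
  apply Subalgebra.map_injective (f := D.A.val) Subtype.val_injective
  rw [AlgHom.map_adjoin, Algebra.map_top, Subalgebra.range_val, ← Set.range_comp]
  rfl

section Reg

variable [IsDomain B] [IsNoetherianRing B]

theorem regular (hgn : IsUnit ((D.g * D.n : ℕ) : B)) (hf : D.f ≠ 0)
    (hreg : ∀ (P : Ideal B) [P.IsPrime], IsRegularLocalRing (Localization.AtPrime P))
    (hD : ∀ (P : Ideal (B ⧸ Ideal.span ({D.f} : Set B))) [P.IsPrime],
      IsRegularLocalRing (Localization.AtPrime P))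
    (Q : Ideal D.A) [Q.IsPrime] : IsRegularLocalRing (Localization.AtPrime Q) := by
  classical
  haveI := D.A_finite
  haveI := D.A_free
  haveI : IsNoetherianRing D.A := IsNoetherianRing.of_finite B D.A
  have hg : IsUnit (D.g : B) := by rw [Nat.cast_mul, IsUnit.mul_iff] at hgn; exact hgn.1
  let P := Q.under B
  by_cases hfP : D.f ∈ P
  · let π := Ideal.Quotient.mk (Ideal.span ({D.f} : Set B))
    let P' := P.map π
    have hle : Ideal.span ({D.f} : Set B) ≤ P := (Ideal.span_singleton_le_iff_mem _).mpr hfP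
    haveI : P'.IsPrime := Ideal.isPrime_map_quotientMk_of_isPrime hle
    have hcomap : P'.comap π = P := by
      rw [Ideal.comap_map_of_surjective _ Ideal.Quotient.mk_surjective, ← RingHom.ker_eq_comap_bot,
        Ideal.mk_ker, sup_eq_left.mpr hle]
    obtain ⟨G', hG'P, hG'c, hG'⟩ := lift_gens P' (hD P')
    obtain ⟨lift, hlift⟩ := Ideal.Quotient.mk_surjective (I := Ideal.span ({D.f} : Set B)).hasRightInverse
    let G : Finset D.A := insert D.sA (G'.image fun x => algebraMap B D.A (lift x))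
    have hsQ : D.sA ∈ Q := by
      refine ‹Q.IsPrime›.mem_of_pow_mem D.n ?_
      have : D.sA ^ D.n = D.eA (D.n * D.a) * algebraMap B D.A D.f := by
        apply Subtype.ext
        show (D.s : K) ^ D.n = (D.e _ : K) * algebraMap B K D.f
        rw [← D.hF, ← Units.val_pow_eq_pow_val, s_pow, Units.val_mul]
      rw [this]
      exact Ideal.mul_mem_left _ _ hfP
    have hsG : Ideal.span {D.sA} ≤ Ideal.span (↑G : Set D.A) :=
      Ideal.span_mono (by simp [G])
    refine regular_of (B := B) Q P rfl G ?_ ?_ ?_ _ D.gens_top D.wA D.g hg (D.v : B) ?_ D.wA_pow ?_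
    · intro x hx
      simp only [G, Finset.coe_insert, Finset.coe_image, Set.mem_insert_iff, Set.mem_image,
        Finset.mem_coe] at hx
      rcases hx with rfl | ⟨y, hy, rfl⟩
      · exact hsQ
      · show lift y ∈ P
        rw [← hcomap, Ideal.mem_comap]
        exact (hlift y).symm ▸ hG'P hy
    · have h1 := height_quotient_add_one_le D.f hf P P' hcomap
      refine le_trans ?_ h1
      calc (G.card : ℕ∞) ≤ ((G'.card + 1 : ℕ) : ℕ∞) := by
            exact_mod_cast (Finset.card_insert_le _ _).trans (Nat.add_le_add_right Finset.card_image_le 1)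
        _ ≤ P'.height + 1 := by push_cast; gcongr
    · intro p hp
      obtain ⟨σ, hσ, hmem⟩ := hG' (π p) (Ideal.mem_map_of_mem π hp)
      obtain ⟨σ₀, rfl⟩ := Ideal.Quotient.mk_surjective σ
      refine ⟨algebraMap B D.A σ₀, fun h => hσ (Ideal.mem_map_of_mem π h), ?_⟩
      have h2 : σ₀ * p ∈ Ideal.span (lift '' ↑G') ⊔ Ideal.span {D.f} := by
        have h3 : π (σ₀ * p) ∈ (Ideal.span (lift '' ↑G')).map π := by
          rw [Ideal.map_span, ← Set.image_comp, map_mul]
          have : π ∘ lift = id := funext hlift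
          rw [this, Set.image_id]
          exact hmem
        rw [← Ideal.mem_comap, Ideal.comap_map_of_surjective _ Ideal.Quotient.mk_surjective,
          ← RingHom.ker_eq_comap_bot, Ideal.mk_ker] at h3
        exact h3
      rw [← map_mul]
      have h4 := Ideal.mem_map_of_mem (algebraMap B D.A) h2
      rw [Ideal.map_sup, Ideal.map_span, Ideal.map_span, ← Set.image_comp, Set.image_singleton] at h4
      refine (sup_le (Ideal.span_mono ?_) (((Ideal.span_singleton_le_iff_mem _).mpr D.f_mem_s).trans hsG)) h4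
      rintro _ ⟨y, hy, rfl⟩
      simp only [G, Finset.coe_insert, Finset.coe_image, Set.mem_insert_iff, Set.mem_image, Finset.mem_coe]
      exact Or.inr ⟨y, hy, rfl⟩
    · exact fun h => ‹Q.IsPrime›.ne_top (Ideal.eq_top_of_isUnit_mem _ h (D.v.isUnit.map _))
    · rintro _ ⟨i, rfl⟩
      by_cases hd : D.n ∣ (i : ℕ)
      · obtain ⟨p, hp⟩ := hd
        refine ⟨1, 1, p, fun h => ‹Q.IsPrime›.ne_top ((Ideal.eq_top_iff_one _).mpr (by simpa [P] using h)), 1,
          fun h => ‹Q.IsPrime›.ne_top ((Ideal.eq_top_iff_one _).mpr h), ?_⟩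
        simp only [hp, eA_dvd, map_one, one_mul, sub_self]
        exact zero_mem _
      · refine ⟨1, 0, 0, fun h => ‹Q.IsPrime›.ne_top ((Ideal.eq_top_iff_one _).mpr (by simpa [P] using h)), 1,
          fun h => ‹Q.IsPrime›.ne_top ((Ideal.eq_top_iff_one _).mpr h), ?_⟩
        simp only [map_one, map_zero, one_mul, zero_mul, sub_zero]
        exact hsG (D.eA_mem_s _ (by exact_mod_cast hd))
  · obtain ⟨G', hG'P, hG'c, hG'⟩ := lift_gens P (hreg P)
    let G : Finset D.A := G'.image (algebraMap B D.A)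
    let t : D.A := ⟨D.T, by simpa using D.T_mem 1⟩
    refine regular_of (B := B) Q P rfl G ?_ ?_ ?_ _ D.gens_top t (D.g * D.n) hgn
      ((D.v : B) * D.f ^ (D.g * D.α)) ?_ ?_ ?_
    · intro x hx
      simp only [G, Finset.coe_image, Set.mem_image, Finset.mem_coe] at hx
      obtain ⟨y, hy, rfl⟩ := hx
      exact hG'P hy
    · exact le_trans (by exact_mod_cast Finset.card_image_le) hG'c
    · intro p hp
      obtain ⟨σ, hσ, hmem⟩ := hG' p hp
      refine ⟨algebraMap B D.A σ, hσ, ?_⟩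
      rw [← map_mul]
      simp only [G, Finset.coe_image, ← Ideal.map_span]
      exact Ideal.mem_map_of_mem _ hmem
    · intro h
      rcases (inferInstance : P.IsPrime).mem_or_mem h with h | h
      · exact ‹Q.IsPrime›.ne_top (Ideal.eq_top_of_isUnit_mem _ h (D.v.isUnit.map _))
      · exact hfP ((inferInstance : P.IsPrime).mem_of_pow_mem _ h)
    · apply Subtype.ext
      show (D.T : K) ^ (D.g * D.n) = algebraMap B K _
      rw [← Units.val_pow_eq_pow_val, D.hT, map_mul, Units.val_mul, val_F_pow]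
      rfl
    · rintro _ ⟨i, rfl⟩
      obtain ⟨m, hm⟩ := D.T_eq i
      refine ⟨D.f ^ m, 1, i, fun h => hfP ((inferInstance : P.IsPrime).mem_of_pow_mem _ h), 1,
        fun h => ‹Q.IsPrime›.ne_top ((Ideal.eq_top_iff_one _).mpr h), ?_⟩
      have h5 : algebraMap B D.A (D.f ^ m) * D.eA (i : ℕ) = t ^ (i : ℕ) := Subtype.ext hm.symm
      simp only [map_one, one_mul, h5, sub_self]
      exact zero_mem _

end Reg

/-- coefficient criterion for membership in `s A` -/
lemma coeff_of_mem_s (d : Fin D.g → B) (y : D.A)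
    (h : ∑ p : Fin D.g, algebraMap B D.A (d p) * D.wA ^ (p : ℕ) = D.sA * y) (p : Fin D.g) :
    D.f ∣ d p := by
  classical
  let c : Fin (D.g * D.n) → B := fun r => if D.n ∣ (r : ℕ) then D.f else 1
  let ev : Fin (D.g * D.n) → K := fun r => c r • (D.e (r : ℕ) : K)
  have hstep : ∀ i : ℤ, (D.s : K) * D.e i ∈ Submodule.span B (Set.range ev) := by
    intro i
    have hN : ((D.g * D.n : ℕ) : ℤ) ≠ 0 := by exact_mod_cast D.N_pos.ne'
    obtain ⟨r, hr⟩ : ∃ r : ℕ, (r : ℤ) = (i + D.a) % (D.g * D.n : ℕ) :=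
      ⟨_, Int.toNat_of_nonneg (Int.emod_nonneg _ hN)⟩
    have hrN : r < D.g * D.n := by
      have := Int.emod_lt_of_pos (i + D.a) (by exact_mod_cast D.N_pos : (0 : ℤ) < (D.g * D.n : ℕ))
      omega
    have hi : i + D.a = (r : ℤ) + (i + D.a) / (D.g * D.n : ℕ) * (D.g * D.n : ℕ) := by
      rw [hr]; linarith [Int.emod_add_mul_ediv (i + D.a) ((D.g * D.n : ℕ) : ℤ)]
    have hdvd : (D.n : ℤ) ∣ i + D.a ↔ D.n ∣ r := by
      rw [hi, ← Int.natCast_dvd_natCast]
      refine ⟨fun h => ?_, fun h => ?_⟩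
      · exact (Int.dvd_add_left (Dvd.dvd.mul_left (by push_cast; exact dvd_mul_left _ _) _)).mp h
      · exact dvd_add h (Dvd.dvd.mul_left (by push_cast; exact dvd_mul_left _ _) _)
    have hev : ev ⟨r, hrN⟩ ∈ Submodule.span B (Set.range ev) := Submodule.subset_span ⟨_, rfl⟩
    by_cases hd : (D.n : ℤ) ∣ i + D.a
    · rw [D.s_mul_of_dvd i hd, hi, e_add_period, Units.val_mul, val_vK_zpow, mul_left_comm,
        ← Algebra.smul_def, ← Algebra.smul_def]
      refine Submodule.smul_mem _ _ ?_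
      simpa [ev, c, hdvd.mp hd] using hev
    · rw [D.s_mul_of_not_dvd i hd, hi, e_add_period, Units.val_mul, val_vK_zpow, ← Algebra.smul_def]
      refine Submodule.smul_mem _ _ ?_
      simpa [ev, c, mt hdvd.mpr hd] using hev
  have hmem : (D.s : K) * (y : K) ∈ Submodule.span B (Set.range ev) := by
    have hy := (D.mem_A_iff _).mp y.2
    generalize (y : K) = z₀ at hy ⊢
    induction hy using Submodule.span_induction with
    | mem z hz => obtain ⟨i, rfl⟩ := hz; exact hstep _
    | zero => rw [mul_zero]; exact zero_mem _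
    | add z w _ _ hz hw => rw [mul_add]; exact add_mem hz hw
    | smul r z _ hz => rw [mul_smul_comm]; exact Submodule.smul_mem _ _ hz
  obtain ⟨c', hc'⟩ := (Submodule.mem_span_range_iff_exists_fun B).mp hmem
  let em : Fin D.g → Fin (D.g * D.n) := fun p => ⟨D.n * p, by
    rw [mul_comm D.g]; exact Nat.mul_lt_mul_of_pos_left p.isLt D.hn⟩
  have hem : Function.Injective em := fun p q h => Fin.ext (Nat.eq_of_mul_eq_mul_left D.hn (Fin.val_eq_of_eq h))
  let d' : Fin (D.g * D.n) → B := fun r => ∑ p, if em p = r then d p else 0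
  have hd' : ∀ p, d' (em p) = d p := fun p => by
    simp only [d']
    rw [Finset.sum_eq_single p (fun q _ hq => if_neg (fun e => hq (hem e))) (by simp), if_pos rfl]
  have hsum : ∑ r, d' r • (D.e (r : ℕ) : K) = ∑ r, (c' r * c r) • (D.e (r : ℕ) : K) := by
    have h6 := congrArg (fun z : D.A => (z : K)) h
    simp only [AddSubmonoidClass.coe_finset_sum, MulMemClass.coe_mul, SubmonoidClass.coe_pow,
      Subalgebra.coe_algebraMap] at h6
    calc _ = ∑ p, d p • (D.e ((em p : ℕ) : ℤ) : K) := by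
          simp only [d', Finset.sum_smul, ite_smul, zero_smul]
          rw [Finset.sum_comm]
          exact Finset.sum_congr rfl fun p _ => by simp
      _ = _ := by
          rw [show (∑ r, (c' r * c r) • (D.e (r : ℕ) : K)) = (D.s : K) * (y : K) by
            rw [← hc']; simp [ev, mul_smul]]
          rw [show (D.s : K) = (D.sA : K) from rfl, ← h6]
          refine Finset.sum_congr rfl fun p _ => ?_
          rw [Algebra.smul_def, ← SubmonoidClass.coe_pow, ← D.eA_dvd]
          rfl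
  have := Fintype.linearIndependent_iff.mp D.e_indep (fun r => d' r - c' r * c r)
    (by simp only [sub_smul, Finset.sum_sub_distrib, hsum, sub_self]) (em p)
  rw [sub_eq_zero, hd'] at this
  rw [this]
  exact dvd_mul_of_dvd_right (by simp [c, em]) _

lemma mem_s_of_pow (hg : IsUnit (D.g : B)) [IsReduced (B ⧸ Ideal.span ({D.f} : Set B))]
    (x : D.A) (m : ℕ) (h : x ^ m ∈ Ideal.span {D.sA}) : x ∈ Ideal.span {D.sA} := by
  classical
  let I : Ideal D.A := Ideal.span {D.sA}
  have hrep : ∀ z : D.A, ∃ q : B[X], q.natDegree < D.g ∧ z - aeval D.wA q ∈ I := by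
    intro z
    let S : Submodule B D.A := (Polynomial.degreeLT B D.g).map (aeval D.wA).toLinearMap ⊔ I.restrictScalars B
    suffices z ∈ S by
      obtain ⟨_, ⟨q, hq, rfl⟩, w, hw, hzw⟩ := Submodule.mem_sup.mp this
      refine ⟨q, ?_, ?_⟩
      · have hq' := Polynomial.mem_degreeLT.mp hq
        by_cases h0 : q = 0
        · rw [h0, natDegree_zero]; exact D.hg
        · exact (natDegree_lt_iff_degree_lt h0).mpr hq'
      · rw [← hzw]
        simpa using hw
    have hz : (z : K) ∈ Submodule.span B (Set.range fun i : Fin (D.g * D.n) => (D.e (i : ℕ) : K)) :=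
      (D.mem_A_iff _).mp z.2
    obtain ⟨cz, hcz⟩ := (Submodule.mem_span_range_iff_exists_fun B).mp hz
    have : z = ∑ i, cz i • D.eA (i : ℕ) := by
      apply Subtype.ext
      rw [AddSubmonoidClass.coe_finset_sum, ← hcz]
      rfl
    rw [this]
    refine Submodule.sum_mem _ fun i _ => Submodule.smul_mem _ _ ?_
    by_cases hd : D.n ∣ (i : ℕ)
    · obtain ⟨p, hp⟩ := hd
      refine Submodule.mem_sup_left ⟨X ^ p, Polynomial.mem_degreeLT.mpr ?_, ?_⟩
      · refine lt_of_le_of_lt (degree_X_pow_le _) ?_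
        have := i.isLt
        rw [hp, mul_comm D.g] at this
        exact_mod_cast Nat.lt_of_mul_lt_mul_left this
      · show aeval D.wA (X ^ p : B[X]) = _
        rw [map_pow, aeval_X, hp, eA_dvd]
    · exact Submodule.mem_sup_right (D.eA_mem_s _ (by exact_mod_cast hd))
  obtain ⟨q, hq, hxq⟩ := hrep x
  have hqm : aeval D.wA (q ^ m) ∈ I := by
    rw [map_pow]
    have := Ideal.Quotient.eq.mpr hxq
    rw [← Ideal.Quotient.eq_zero_iff_mem, map_pow, ← this, ← map_pow, Ideal.Quotient.eq_zero_iff_mem]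
    exact h
  have hmon : (X ^ D.g - Polynomial.C (D.v : B)).Monic := monic_X_pow_sub_C _ D.hg.ne'
  let r := q ^ m %ₘ (X ^ D.g - Polynomial.C (D.v : B))
  have hr : aeval D.wA r ∈ I := by
    have := Polynomial.modByMonic_add_div (q ^ m) (X ^ D.g - Polynomial.C (D.v : B))
    rw [← this, map_add, map_mul, map_sub, map_pow, aeval_X, aeval_C, D.wA_pow, sub_self, zero_mul,
      add_zero] at hqm
    exact hqm
  have hfr : ∀ p : ℕ, D.f ∣ r.coeff p := by
    intro p
    rcases subsingleton_or_nontrivial B with hs | hs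
    · exact ⟨0, Subsingleton.elim _ _⟩
    have hdeg : r.natDegree < D.g := by
      have := natDegree_modByMonic_lt (q ^ m) hmon (fun e => by
        have := congrArg natDegree e
        rw [natDegree_X_pow_sub_C, natDegree_one] at this
        exact D.hg.ne' this)
      rwa [natDegree_X_pow_sub_C] at this
    by_cases hp : p < D.g
    · obtain ⟨y, hy⟩ := Ideal.mem_span_singleton.mp hr
      refine D.coeff_of_mem_s (fun p => r.coeff p) y ?_ ⟨p, hp⟩
      rw [← hy, aeval_eq_sum_range' hdeg, Finset.sum_range]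
      simp [Algebra.smul_def]
    · rw [coeff_eq_zero_of_natDegree_lt (by omega)]; exact dvd_zero _
  let π := Ideal.Quotient.mk (Ideal.span ({D.f} : Set B))
  have hqf : ∀ p, D.f ∣ q.coeff p := by
    rcases subsingleton_or_nontrivial (B ⧸ Ideal.span ({D.f} : Set B)) with hs | hs
    · exact fun p => Ideal.mem_span_singleton.mp
        (Ideal.Quotient.eq_zero_iff_mem.mp (Subsingleton.elim (π (q.coeff p)) 0))
    have hdvd : (X ^ D.g - Polynomial.C ((Units.map π.toMonoidHom D.v : (B ⧸ _)ˣ) : B ⧸ _)) ∣ (q.map π) ^ m := by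
      have h1 : r.map π = 0 := by
        ext p
        rw [coeff_map, coeff_zero, Ideal.Quotient.eq_zero_iff_mem, Ideal.mem_span_singleton]
        exact hfr p
      have := congrArg (Polynomial.map π) (Polynomial.modByMonic_add_div (q ^ m) (X ^ D.g - Polynomial.C (D.v : B)))
      rw [Polynomial.map_add, h1, zero_add, Polynomial.map_mul, Polynomial.map_pow, Polynomial.map_sub,
        Polynomial.map_pow, map_X, map_C] at this
      exact ⟨_, this.symm⟩
    have h0 := dvd_of_pow D.g (by simpa using hg.map π) _ (q.map π)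
      (lt_of_le_of_lt natDegree_map_le hq) m hdvd
    intro p
    rw [← Ideal.mem_span_singleton, ← Ideal.Quotient.eq_zero_iff_mem, ← coeff_map, h0, coeff_zero]
  have haq : aeval D.wA q ∈ I := by
    rw [aeval_eq_sum_range]
    refine Ideal.sum_mem _ fun p _ => ?_
    obtain ⟨c, hc⟩ := hqf p
    rw [Algebra.smul_def, hc, map_mul, mul_assoc]
    exact Ideal.mul_mem_right _ _ D.f_mem_s
  have := add_mem hxq haq
  rwa [sub_add_cancel] at this

lemma integral_mem (hg : IsUnit (D.g : B)) [IsReduced (B ⧸ Ideal.span ({D.f} : Set B))]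
    (x : K) (hx : IsIntegral D.A x) : x ∈ D.A := by
  have key : ∀ k : ℕ, (D.s : K) ^ k * x ∈ D.A → x ∈ D.A := by
    intro k
    induction k with
    | zero => simp
    | succ k ih =>
      intro hk
      apply ih
      let y : D.A := ⟨_, hk⟩
      obtain ⟨p, hp, hpx⟩ := hx
      have hy : Polynomial.eval₂ (algebraMap D.A K) (algebraMap D.A K y)
          (p.scaleRoots (D.sA ^ (k + 1))) = 0 := by
        have := Polynomial.scaleRoots_eval₂_eq_zero (s := D.sA ^ (k + 1)) (algebraMap D.A K) hpx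
        exact this
      have hinjA : Function.Injective (algebraMap D.A K) := Subtype.val_injective
      rw [Polynomial.eval₂_at_apply, ← map_zero (algebraMap D.A K)] at hy
      have hy' := hinjA hy
      have hmem : y ^ (p.scaleRoots (D.sA ^ (k + 1))).natDegree ∈ Ideal.span {D.sA} := by
        rw [Polynomial.eval_eq_sum_range, Finset.sum_range_succ,
          coeff_natDegree, (monic_scaleRoots_iff _).mpr hp, one_mul] at hy'
        rw [eq_neg_of_add_eq_zero_right hy', neg_mem_iff]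
        refine Ideal.sum_mem _ fun i hi => Ideal.mul_mem_right _ _ ?_
        rw [Finset.mem_range, natDegree_scaleRoots] at hi
        rw [coeff_scaleRoots, ← pow_mul]
        exact Ideal.mul_mem_left _ _ (Ideal.pow_mem_of_mem _ (Ideal.mem_span_singleton_self _) _
          (Nat.mul_pos (Nat.succ_pos k) (by omega)))
      obtain ⟨z, hz⟩ := Ideal.mem_span_singleton.mp (D.mem_s_of_pow hg y _ hmem)
      have hz' : (D.s : K) ^ (k + 1) * x = (D.s : K) * (z : K) := congrArg (fun w : D.A => (w : K)) hz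
      rw [pow_succ', mul_assoc] at hz'
      rw [(Units.mul_right_inj D.s).mp hz']
      exact z.2
  obtain ⟨k, hk⟩ := D.gen x
  have hFA : (D.F : K) ^ k * x ∈ D.A := by
    refine (Submodule.span_le (p := D.A.toSubmodule)).mpr ?_ hk
    rintro _ ⟨i, rfl⟩
    exact D.T_mem i
  refine key (D.n * k) ?_
  rw [pow_mul, ← Units.val_pow_eq_pow_val D.s, s_pow, Units.val_mul, mul_pow, mul_assoc]
  exact mul_mem (pow_mem (D.e_mem _) _) hFA

end Cover

end Groth.Agent.Cyc6
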